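import Cfsg.Agent.EqLemmas

/-! Element orders (spectrum) helpers: products, congruent tuples modulo an elementary abelian normal subgroup,
unboundedly many isospectral groups. -/

namespace Cfsg.Agent.Spectrum

variable {G H : Type*} [Group G] [Group H]

theorem range_orderOf_eq_of_mulEquiv (e : G ≃* H) :
    Set.range (orderOf : G → ℕ) = Set.range (orderOf : H → ℕ) := by
  ext n
  constructor
  · rintro ⟨x, rfl⟩; exact ⟨e x, e.orderOf_eq x⟩
  · rintro ⟨x, rfl⟩; exact ⟨e.symm x, e.symm.orderOf_eq x⟩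

/-- An element whose `p`-th power agrees with that of an element congruent to it. -/
theorem orderOf_dvd_mul_of_congr (V : Subgroup G) [V.Normal] {p : ℕ} (hexp : ∀ x ∈ V, x ^ p = 1) (a : G) :
    orderOf (a : G ⧸ V) ∣ orderOf a ∧ orderOf a ∣ orderOf (a : G ⧸ V) * p := by
  refine ⟨orderOf_map_dvd (QuotientGroup.mk' V) a, ?_⟩
  rw [orderOf_dvd_iff_pow_eq_one, pow_mul]
  apply hexp
  rw [← QuotientGroup.eq_one_iff, QuotientGroup.mk_pow, pow_orderOf_eq_one]

/-- Two elements congruent modulo a normal subgroup of prime exponent: one order divides the other. -/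
theorem lcm_orderOf_eq_or (V : Subgroup G) [V.Normal] {p : ℕ} (hp : p.Prime) (hexp : ∀ x ∈ V, x ^ p = 1)
    {a b : G} (h : (a : G ⧸ V) = b) :
    Nat.lcm (orderOf a) (orderOf b) = orderOf a ∨ Nat.lcm (orderOf a) (orderOf b) = orderOf b := by
  obtain ⟨ha1, ha2⟩ := orderOf_dvd_mul_of_congr V hexp a
  obtain ⟨hb1, hb2⟩ := orderOf_dvd_mul_of_congr V hexp b
  rw [← h] at hb1 hb2
  rcases Nat.eq_zero_or_pos (orderOf (a : G ⧸ V)) with hm | hm
  · rw [hm] at ha1 hb1
    left; rw [zero_dvd_iff.mp ha1, Nat.lcm_zero_left]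
  · obtain ⟨i, hi⟩ := ha1
    obtain ⟨j, hj⟩ := hb1
    rw [hi] at ha2 ⊢
    rw [hj] at hb2 ⊢
    have hi' := (Nat.mul_dvd_mul_iff_left hm).mp ha2
    have hj' := (Nat.mul_dvd_mul_iff_left hm).mp hb2
    rcases (Nat.dvd_prime hp).mp hi' with rfl | rfl
    · right; exact Nat.lcm_eq_right (mul_dvd_mul_left _ (one_dvd _))
    · left; exact Nat.lcm_eq_left (mul_dvd_mul_left _ hj')

/-- The tuples with all entries congruent modulo `V`. -/
def congrTuples (V : Subgroup G) [V.Normal] (k : ℕ) : Subgroup (Fin k → G) where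
  carrier := {f | ∀ i j, (f i : G ⧸ V) = f j}
  one_mem' := fun _ _ => rfl
  mul_mem' := by
    intro f g hf hg i j
    simp only [Pi.mul_apply, QuotientGroup.mk_mul, hf i j, hg i j]
  inv_mem' := by
    intro f hf i j
    simp only [Pi.inv_apply, QuotientGroup.mk_inv, hf i j]

theorem range_orderOf_congrTuples [Finite G] (V : Subgroup G) [V.Normal] {p : ℕ} (hp : p.Prime)
    (hexp : ∀ x ∈ V, x ^ p = 1) (k : ℕ) :
    Set.range (orderOf : congrTuples V (k + 1) → ℕ) = Set.range (orderOf : G → ℕ) := by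
  ext n
  constructor
  · rintro ⟨⟨f, hf⟩, rfl⟩
    obtain ⟨i, -, hi⟩ := Finset.exists_max_image Finset.univ (fun i => orderOf (f i)) Finset.univ_nonempty
    refine ⟨f i, ?_⟩
    have hdvd : ∀ j, orderOf (f j) ∣ orderOf (f i) := by
      intro j
      rcases lcm_orderOf_eq_or V hp hexp (hf i j) with h | h
      · rw [← h]; exact Nat.dvd_lcm_right _ _
      · have h1 : orderOf (f i) ∣ orderOf (f j) := by rw [← h]; exact Nat.dvd_lcm_left _ _
        have h2 := Nat.le_of_dvd (orderOf_pos _) h1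
        have h3 := hi j (Finset.mem_univ _)
        rw [le_antisymm h2 h3]
    apply Nat.dvd_antisymm
    · exact orderOf_map_dvd ((Pi.evalMonoidHom (fun _ : Fin (k + 1) => G) i).comp (congrTuples V (k + 1)).subtype) ⟨f, hf⟩
    · rw [orderOf_dvd_iff_pow_eq_one]
      apply Subtype.ext
      funext j
      simpa using orderOf_dvd_iff_pow_eq_one.mp (hdvd j)
  · rintro ⟨g, rfl⟩
    let φ : G →* congrTuples V (k + 1) :=
      { toFun := fun g => ⟨fun _ => g, fun _ _ => rfl⟩
        map_one' := rfl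
        map_mul' := fun _ _ => rfl }
    refine ⟨φ g, orderOf_injective φ ?_ g⟩
    intro a b hab
    exact congrFun (congrArg Subtype.val hab) 0

/-- Unboundedly many groups isospectral to a group with a nontrivial normal subgroup of prime exponent. -/
theorem exists_large_isospectral [Finite G] (V : Subgroup G) [V.Normal] (hV : V ≠ ⊥) {p : ℕ} (hp : p.Prime)
    (hexp : ∀ x ∈ V, x ^ p = 1) (N : ℕ) :
    ∃ (K : Type) (_ : Group K) (_ : Fintype K),
      N < Fintype.card K ∧ Set.range (orderOf : K → ℕ) = Set.range (orderOf : G → ℕ) := by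
  let T := congrTuples V (N + 1)
  have hV2 : 2 ≤ Nat.card V := Subgroup.one_lt_card_iff_ne_bot V |>.mpr hV
  have hinj : Function.Injective (fun f : Fin N → V =>
      (⟨Fin.cons 1 (fun i => (f i : G)), by
        have key : ∀ i, ((Fin.cons (1 : G) (fun i => (f i : G)) : Fin (N + 1) → G) i : G ⧸ V) = 1 := by
          intro i
          induction i using Fin.cases with
          | zero => simp
          | succ i => simp [QuotientGroup.eq_one_iff]
        intro i j
        rw [key i, key j]⟩ : T)) := by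
    intro f g hfg
    funext i
    have := congrFun (congrArg Subtype.val hfg) i.succ
    simpa using this
  have hcard : N < Nat.card T := by
    refine lt_of_lt_of_le ?_ (Nat.card_le_card_of_injective _ hinj)
    rw [Nat.card_fun, Nat.card_fin]
    exact lt_of_lt_of_le N.lt_two_pow_self (Nat.pow_le_pow_left hV2 N)
  haveI : Small.{0} T := inferInstance
  letI : Fintype (Shrink.{0} T) := Fintype.ofFinite _
  refine ⟨Shrink.{0} T, inferInstance, inferInstance, ?_, ?_⟩
  · rw [← Nat.card_eq_fintype_card, ← Nat.card_congr (equivShrink T)]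
    exact hcard
  · rw [range_orderOf_eq_of_mulEquiv (Shrink.mulEquiv : Shrink.{0} T ≃* T), range_orderOf_congrTuples V hp hexp]

/-- A finite group with a nontrivial solvable normal subgroup has a nontrivial elementary abelian normal subgroup. -/
theorem exists_normal_elementary_abelian [Finite G] (K : Subgroup G) [K.Normal] (hK : K ≠ ⊥)
    (hs : Group.IsSolvable K) :
    ∃ (V : Subgroup G) (p : ℕ), V.Normal ∧ V ≠ ⊥ ∧ p.Prime ∧ (∀ x ∈ V, x ^ p = 1) ∧
      ∀ x ∈ V, ∀ y ∈ V, x * y = y * x := by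
  classical
  let D : ℕ → Subgroup G := fun n => (derivedSeries K n).map K.subtype
  have hD : ∀ n, (D n).Normal := by
    intro n
    induction n with
    | zero => simp only [D, derivedSeries_zero, ← MonoidHom.range_eq_map, Subgroup.range_subtype]; infer_instance
    | succ n ih =>
      simp only [D, derivedSeries_succ, Subgroup.map_commutator] at *
      infer_instance
  obtain ⟨m, hm⟩ := hs.solvable
  have hex : ∃ n, D n = ⊥ := ⟨m, by simp [D, hm]⟩
  have hD0 : D 0 = K := by simp [D, ← MonoidHom.range_eq_map]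
  have hn := Nat.find_spec hex
  have hn0 : Nat.find hex ≠ 0 := by
    intro h; rw [h, hD0] at hn; exact hK hn
  obtain ⟨k, hk⟩ := Nat.exists_eq_succ_of_ne_zero hn0
  rw [hk] at hn
  have hkne : D k ≠ ⊥ := Nat.find_min hex (by omega)
  have hc : ⁅D k, D k⁆ = ⊥ := by
    rw [← hn]; simp [D, derivedSeries_succ, Subgroup.map_commutator]
  have hcomm : ∀ x ∈ D k, ∀ y ∈ D k, x * y = y * x := by
    intro x hx y hy
    have := (Subgroup.commutator_eq_bot_iff_le_centralizer.mp hc) hx
    exact (Subgroup.mem_centralizer_iff.mp this y hy).symm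
  have h2 : 1 < Nat.card (D k) := Subgroup.one_lt_card_iff_ne_bot _ |>.mpr hkne
  obtain ⟨p, hp, hpdvd⟩ := Nat.exists_prime_and_dvd h2.ne'
  haveI := Fact.mk hp
  let V : Subgroup G :=
    { carrier := {x | x ∈ D k ∧ x ^ p = 1}
      one_mem' := ⟨one_mem _, one_pow _⟩
      mul_mem' := fun {x y} hx hy => ⟨mul_mem hx.1 hy.1, by
        rw [Commute.mul_pow (hcomm x hx.1 y hy.1), hx.2, hy.2, one_mul]⟩
      inv_mem' := fun {x} hx => ⟨inv_mem hx.1, by rw [inv_pow, hx.2, inv_one]⟩ }
  refine ⟨V, p, ⟨fun x hx g => ⟨(hD k).conj_mem x hx.1 g, by rw [conj_pow, hx.2, mul_one, mul_inv_cancel]⟩⟩, ?_, hp,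
    fun x hx => hx.2, fun x hx y hy => hcomm x hx.1 y hy.1⟩
  obtain ⟨x, hx⟩ := exists_prime_orderOf_dvd_card' (G := D k) p hpdvd
  intro hbot
  have hmem : (x : G) ∈ V := ⟨x.2, by
    have h := pow_orderOf_eq_one x
    rw [hx] at h
    simpa using congrArg Subtype.val h⟩
  rw [hbot, Subgroup.mem_bot] at hmem
  have : x = 1 := Subtype.ext hmem
  rw [this, orderOf_one] at hx
  exact hp.one_lt.ne hx

/-- A finite group with a nontrivial solvable normal subgroup has a nontrivial normal subgroup of prime exponent. -/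
theorem exists_normal_prime_exponent [Finite G] (K : Subgroup G) [K.Normal] (hK : K ≠ ⊥) (hs : Group.IsSolvable K) :
    ∃ (V : Subgroup G) (p : ℕ), V.Normal ∧ V ≠ ⊥ ∧ p.Prime ∧ ∀ x ∈ V, x ^ p = 1 :=
  let ⟨V, p, h1, h2, h3, h4, _⟩ := exists_normal_elementary_abelian K hK hs
  ⟨V, p, h1, h2, h3, h4⟩

theorem mem_range_orderOf_prod {n : ℕ} :
    n ∈ Set.range (orderOf : G × H → ℕ) ↔ ∃ a ∈ Set.range (orderOf : G → ℕ), ∃ b ∈ Set.range (orderOf : H → ℕ),
      Nat.lcm a b = n := by
  constructor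
  · rintro ⟨⟨x, y⟩, rfl⟩
    exact ⟨_, ⟨x, rfl⟩, _, ⟨y, rfl⟩, (Prod.orderOf (x, y)).symm⟩
  · rintro ⟨_, ⟨x, rfl⟩, _, ⟨y, rfl⟩, rfl⟩
    exact ⟨(x, y), Prod.orderOf (x, y)⟩

end Cfsg.Agent.Spectrum
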