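import Cfsg.Agent.Lib.Spectrum.Basic

/-! The affine group `F⁴² : SL₂(4)` inside `SL₃(4)`: its element orders are 1, 2, 3, 4, 5, as for `A₆`. -/

set_option autoImplicit false

open Matrix
open scoped MatrixGroups

namespace Cfsg.Agent.Spectrum

variable (F : Type*) [Field F]

/-- The generating set of the affine group. -/
def affSet : Set (Matrix.SpecialLinearGroup (Fin 3) F) :=
  {M | (M : Matrix (Fin 3) (Fin 3) F) 2 0 = 0 ∧ (M : Matrix (Fin 3) (Fin 3) F) 2 1 = 0 ∧
    (M : Matrix (Fin 3) (Fin 3) F) 2 2 = 1}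

variable {F}

theorem row_of_mem {s : Matrix.SpecialLinearGroup (Fin 3) F} (h : s ∈ Subgroup.closure (affSet F)) :
    (Pi.single 2 1 : Fin 3 → F) ᵥ* (s : Matrix (Fin 3) (Fin 3) F) = Pi.single 2 1 := by
  induction h using Subgroup.closure_induction with
  | mem x hx =>
    obtain ⟨h0, h1, h2⟩ := hx
    rw [Matrix.single_one_vecMul]
    ext j; fin_cases j <;> simp [h0, h1, h2]
  | one => simp
  | mul x y _ _ hx hy => rw [Matrix.SpecialLinearGroup.coe_mul, ← Matrix.vecMul_vecMul, hx, hy]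
  | inv x _ hx =>
    conv_lhs => rw [← hx, Matrix.vecMul_vecMul, ← Matrix.SpecialLinearGroup.coe_mul, mul_inv_cancel,
      Matrix.SpecialLinearGroup.coe_one, Matrix.vecMul_one]

theorem mem_affine_iff {s : Matrix.SpecialLinearGroup (Fin 3) F} :
    s ∈ Subgroup.closure (affSet F) ↔ s ∈ affSet F := by
  refine ⟨fun h => ?_, fun h => Subgroup.subset_closure h⟩
  have e := row_of_mem h
  rw [Matrix.single_one_vecMul] at e
  exact ⟨by simpa using congrFun e 0, by simpa using congrFun e 1, by simpa using congrFun e 2⟩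

theorem char_two (hF : Nat.card F = 4) : CharP F 2 := by
  haveI : Finite F := Nat.finite_of_card_ne_zero (by omega)
  haveI := Fintype.ofFinite F
  obtain ⟨p, hp⟩ := CharP.exists F
  haveI := hp
  obtain ⟨k, hc, hk⟩ := FiniteField.card F p
  rw [← Nat.card_eq_fintype_card, hF] at hk
  have hd : p ∣ 2 ^ 2 := by rw [show (2 : ℕ) ^ 2 = 4 by norm_num, hk]; exact dvd_pow_self p k.pos.ne'
  rwa [← (Nat.prime_dvd_prime_iff_eq hc Nat.prime_two).mp (hc.dvd_of_dvd_pow hd)]

theorem cubic (s : Matrix (Fin 3) (Fin 3) F) (h0 : s 2 0 = 0) (h1 : s 2 1 = 0) (h2 : s 2 2 = 1)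
    (hdet : s.det = 1) :
    (s - 1) * (s * s - (s 0 0 + s 1 1) • s + 1) = 0 := by
  rw [Matrix.det_fin_three, h0, h1, h2] at hdet
  ext i j
  fin_cases i <;> fin_cases j <;>
    simp [Matrix.mul_apply, Fin.sum_univ_three, h0, h1, h2] <;> grind

theorem pow_cases [Finite F] (hF : Nat.card F = 4) {s : Matrix.SpecialLinearGroup (Fin 3) F} (hs : s ∈ affSet F) :
    s ^ 3 = 1 ∨ s ^ 4 = 1 ∨ s ^ 5 = 1 := by
  haveI := char_two hF
  haveI := Fintype.ofFinite F
  set S := (s : Matrix (Fin 3) (Fin 3) F) with hS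
  have h := cubic S hs.1 hs.2.1 hs.2.2 s.2
  set t := S 0 0 + S 1 1
  have ht : t = 0 ∨ t = 1 ∨ t * t + t + 1 = 0 := by
    have h4 := FiniteField.pow_card t
    rw [← Nat.card_eq_fintype_card, hF] at h4
    have : t * (t - 1) * (t * t + t + 1) = 0 := by linear_combination h4
    rcases mul_eq_zero.mp this with h' | h'
    · rcases mul_eq_zero.mp h' with h'' | h''
      · exact Or.inl h''
      · exact Or.inr (Or.inl (sub_eq_zero.mp h''))
    · exact Or.inr (Or.inr h')
  have h2 : ∀ a : Matrix (Fin 3) (Fin 3) F, a + a = 0 := fun a => by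
    ext i j; simp [CharTwo.add_self_eq_zero]
  have hneg : ∀ a : Matrix (Fin 3) (Fin 3) F, -a = a := fun a => by
    ext i j; simp [CharTwo.neg_eq]
  have h3 : S * S * S = (t + 1) • (S * S) + (t + 1) • S + 1 := by
    have e : S * S * S - ((t + 1) • (S * S) - (t + 1) • S + 1) = (S - 1) * (S * S - t • S + 1) := by
      simp only [sub_mul, mul_add, mul_sub, one_mul, mul_one, Matrix.mul_smul, mul_assoc]
      module
    rw [h, sub_eq_zero] at e
    rw [e, sub_eq_add_neg, hneg]
  rcases ht with ht | ht | ht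
  · refine Or.inr (Or.inl (Subtype.ext ?_))
    rw [ht, zero_add, one_smul, one_smul] at h3
    rw [Matrix.SpecialLinearGroup.coe_pow, Matrix.SpecialLinearGroup.coe_one, ← hS, pow_succ, pow_succ, pow_succ,
      pow_one, h3, add_mul, add_mul, one_mul, h3,
      show S * S + S + 1 + S * S + S = (S * S + S * S) + (S + S) + 1 by abel, h2, h2, zero_add, zero_add]
  · refine Or.inl (Subtype.ext ?_)
    rw [ht, CharTwo.add_self_eq_zero, zero_smul, zero_smul, zero_add, zero_add] at h3
    rw [Matrix.SpecialLinearGroup.coe_pow, Matrix.SpecialLinearGroup.coe_one, ← hS, pow_succ, pow_succ, pow_one, h3]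
  · refine Or.inr (Or.inr (Subtype.ext ?_))
    rw [Matrix.SpecialLinearGroup.coe_pow, Matrix.SpecialLinearGroup.coe_one, ← hS, pow_succ, pow_succ, pow_succ,
      pow_succ, pow_one, h3]
    simp only [add_mul, smul_mul_assoc, one_mul, h3, smul_add, smul_smul]
    simp only [← add_assoc]
    ext i j
    simp only [Matrix.add_apply, Matrix.smul_apply, smul_eq_mul]
    generalize (1 : Matrix (Fin 3) (Fin 3) F) i j = o
    generalize (S * S) i j = q
    generalize S i j = r
    have e2 : (2 : F) = 0 := CharTwo.two_eq_zero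
    grind

theorem range_orderOf_affine [Finite F] (hF : Nat.card F = 4) :
    Set.range (orderOf : Subgroup.closure (affSet F) → ℕ) = {1, 2, 3, 4, 5} := by
  haveI := char_two hF
  haveI : Finite (Matrix.SpecialLinearGroup (Fin 3) F) := inferInstance
  obtain ⟨w, hw⟩ : ∃ w : F, w * w + w + 1 = 0 := by
    haveI := Fintype.ofFinite F
    classical
    obtain ⟨w, hw⟩ : ∃ w : F, w ∉ ({0, 1} : Finset F) := by
      by_contra hall
      simp only [not_exists, not_not] at hall
      have := Finset.card_le_card (fun x _ => hall x : (Finset.univ : Finset F) ⊆ {0, 1})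
      rw [Finset.card_univ, ← Nat.card_eq_fintype_card, hF] at this
      simp at this
    simp only [Finset.mem_insert, Finset.mem_singleton, not_or] at hw
    have h4 := FiniteField.pow_card w
    rw [← Nat.card_eq_fintype_card, hF] at h4
    have : w * (w - 1) * (w * w + w + 1) = 0 := by linear_combination h4
    exact ⟨w, (mul_eq_zero.mp this).resolve_left (mul_ne_zero hw.1 (sub_ne_zero.mpr hw.2))⟩
  have e2 : (2 : F) = 0 := CharTwo.two_eq_zero
  ext n
  simp only [Set.mem_insert_iff, Set.mem_singleton_iff]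
  constructor
  · rintro ⟨⟨s, hs⟩, rfl⟩
    rw [Subgroup.orderOf_mk]
    have hp := pow_cases hF (mem_affine_iff.mp hs)
    have key : ∀ k : ℕ, s ^ k = 1 → orderOf s ∣ k := fun k hk => orderOf_dvd_of_pow_eq_one hk
    rcases hp with h | h | h
    · rcases (Nat.dvd_prime Nat.prime_three).mp (key _ h) with e | e <;> simp [e]
    · have h' : orderOf s ∣ 2 ^ 2 := key _ h
      obtain ⟨i, hi, hi'⟩ := (Nat.dvd_prime_pow Nat.prime_two).mp h'
      rw [hi']
      interval_cases i <;> simp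
    · rcases (Nat.dvd_prime Nat.prime_five).mp (key _ h) with e | e <;> simp [e]
  · rintro (rfl | rfl | rfl | rfl | rfl)
    · exact ⟨1, orderOf_one⟩
    · let M : Matrix.SpecialLinearGroup (Fin 3) F := ⟨!![1, 0, 1; 0, 1, 0; 0, 0, 1], by simp [Matrix.det_fin_three]⟩
      refine ⟨⟨M, Subgroup.subset_closure ⟨rfl, rfl, rfl⟩⟩, ?_⟩
      rw [Subgroup.orderOf_mk]
      refine orderOf_eq_prime (hp := ⟨Nat.prime_two⟩) ?_ (fun h => ?_)
      · apply Subtype.ext
        rw [Matrix.SpecialLinearGroup.coe_pow, Matrix.SpecialLinearGroup.coe_one, sq]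
        ext i j; fin_cases i <;> fin_cases j <;> simp [M, Matrix.mul_apply, Fin.sum_univ_three, CharTwo.add_self_eq_zero]
      · have := congrArg (fun z : Matrix.SpecialLinearGroup (Fin 3) F => (z : Matrix (Fin 3) (Fin 3) F) 0 2) h
        simp [M] at this
    · let M : Matrix.SpecialLinearGroup (Fin 3) F := ⟨!![0, 1, 0; 1, 1, 0; 0, 0, 1], by
        simp [Matrix.det_fin_three, CharTwo.neg_eq]⟩
      refine ⟨⟨M, Subgroup.subset_closure ⟨rfl, rfl, rfl⟩⟩, ?_⟩
      rw [Subgroup.orderOf_mk]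
      refine orderOf_eq_prime (hp := ⟨Nat.prime_three⟩) ?_ (fun h => ?_)
      · apply Subtype.ext
        rw [Matrix.SpecialLinearGroup.coe_pow, Matrix.SpecialLinearGroup.coe_one, pow_succ, sq]
        ext i j; fin_cases i <;> fin_cases j <;> simp [M, Matrix.mul_apply, Fin.sum_univ_three] <;> grind
      · have := congrArg (fun z : Matrix.SpecialLinearGroup (Fin 3) F => (z : Matrix (Fin 3) (Fin 3) F) 0 1) h
        simp [M] at this
    · let M : Matrix.SpecialLinearGroup (Fin 3) F := ⟨!![1, 1, 0; 0, 1, 1; 0, 0, 1], by simp [Matrix.det_fin_three]⟩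
      refine ⟨⟨M, Subgroup.subset_closure ⟨rfl, rfl, rfl⟩⟩, ?_⟩
      rw [Subgroup.orderOf_mk, show (4 : ℕ) = 2 ^ (1 + 1) by norm_num]
      haveI := Fact.mk Nat.prime_two
      refine orderOf_eq_prime_pow (fun h => ?_) ?_
      · rw [pow_one, sq] at h
        have := congrArg (fun z : Matrix.SpecialLinearGroup (Fin 3) F => (z : Matrix (Fin 3) (Fin 3) F) 0 2) h
        simp only [Matrix.SpecialLinearGroup.coe_mul, Matrix.SpecialLinearGroup.coe_one] at this
        simp [M, Matrix.mul_apply, Fin.sum_univ_three] at this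
      · apply Subtype.ext
        rw [Matrix.SpecialLinearGroup.coe_pow, Matrix.SpecialLinearGroup.coe_one, show 2 ^ (1 + 1) = 2 + 2 by norm_num,
          pow_add, sq]
        ext i j; fin_cases i <;> fin_cases j <;> simp [M, Matrix.mul_apply, Fin.sum_univ_three] <;> grind
    · let M : Matrix.SpecialLinearGroup (Fin 3) F := ⟨!![0, 1, 0; 1, w, 0; 0, 0, 1], by
        simp [Matrix.det_fin_three, CharTwo.neg_eq]⟩
      refine ⟨⟨M, Subgroup.subset_closure ⟨rfl, rfl, rfl⟩⟩, ?_⟩
      rw [Subgroup.orderOf_mk]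
      refine orderOf_eq_prime (hp := ⟨Nat.prime_five⟩) ?_ (fun h => ?_)
      · apply Subtype.ext
        rw [Matrix.SpecialLinearGroup.coe_pow, Matrix.SpecialLinearGroup.coe_one, pow_succ, pow_succ, pow_succ, sq]
        ext i j; fin_cases i <;> fin_cases j <;> simp [M, Matrix.mul_apply, Fin.sum_univ_three] <;> grind
      · have := congrArg (fun z : Matrix.SpecialLinearGroup (Fin 3) F => (z : Matrix (Fin 3) (Fin 3) F) 0 1) h
        simp [M] at this

theorem range_orderOf_alt6 : Set.range (orderOf : alternatingGroup (Fin 6) → ℕ) = {1, 2, 3, 4, 5} := by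
  have h : ∀ x : alternatingGroup (Fin 6), x ^ 3 = 1 ∨ x ^ 4 = 1 ∨ x ^ 5 = 1 := by decide +kernel
  ext n
  simp only [Set.mem_insert_iff, Set.mem_singleton_iff]
  constructor
  · rintro ⟨x, rfl⟩
    rcases h x with h | h | h
    · rcases (Nat.dvd_prime Nat.prime_three).mp (orderOf_dvd_of_pow_eq_one h) with e | e <;> simp [e]
    · have h' : orderOf x ∣ 2 ^ 2 := orderOf_dvd_of_pow_eq_one h
      obtain ⟨i, hi, hi'⟩ := (Nat.dvd_prime_pow Nat.prime_two).mp h'
      rw [hi']
      interval_cases i <;> simp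
    · rcases (Nat.dvd_prime Nat.prime_five).mp (orderOf_dvd_of_pow_eq_one h) with e | e <;> simp [e]
  · rintro (rfl | rfl | rfl | rfl | rfl)
    · exact ⟨1, orderOf_one⟩
    · obtain ⟨x, h1, h2⟩ : ∃ x : alternatingGroup (Fin 6), x ^ 2 = 1 ∧ x ≠ 1 := by decide +kernel
      exact ⟨x, orderOf_eq_prime (hp := ⟨Nat.prime_two⟩) h1 h2⟩
    · obtain ⟨x, h1, h2⟩ : ∃ x : alternatingGroup (Fin 6), x ^ 3 = 1 ∧ x ≠ 1 := by decide +kernel
      exact ⟨x, orderOf_eq_prime (hp := ⟨Nat.prime_three⟩) h1 h2⟩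
    · obtain ⟨x, h1, h2⟩ : ∃ x : alternatingGroup (Fin 6), x ^ 4 = 1 ∧ x ^ 2 ≠ 1 := by decide +kernel
      haveI := Fact.mk Nat.prime_two
      exact ⟨x, orderOf_eq_prime_pow (n := 1) (by simpa using h2) (by simpa using h1)⟩
    · obtain ⟨x, h1, h2⟩ : ∃ x : alternatingGroup (Fin 6), x ^ 5 = 1 ∧ x ≠ 1 := by decide +kernel
      exact ⟨x, orderOf_eq_prime (hp := ⟨Nat.prime_five⟩) h1 h2⟩

theorem exists_translations [Finite F] (hF : Nat.card F = 4) :
    ∃ V : Subgroup (Subgroup.closure (affSet F)), V.Normal ∧ V ≠ ⊥ ∧ ∀ x ∈ V, x ^ 2 = 1 := by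
  haveI := char_two hF
  let A := Subgroup.closure (affSet F)
  have hplane : ∀ (y : A) (v : Fin 3 → F), v 2 = 0 →
      (((y : Matrix.SpecialLinearGroup (Fin 3) F) : Matrix (Fin 3) (Fin 3) F) *ᵥ v) 2 = 0 := by
    intro y v hv
    obtain ⟨h0, h1, -⟩ := mem_affine_iff.mp y.2
    simp [Matrix.mulVec, dotProduct, Fin.sum_univ_three, h0, h1, hv]
  have hcancel : ∀ (y : A) (v : Fin 3 → F), ((y : Matrix.SpecialLinearGroup (Fin 3) F) : Matrix (Fin 3) (Fin 3) F) *ᵥ
      ((((y⁻¹ : A) : Matrix.SpecialLinearGroup (Fin 3) F) : Matrix (Fin 3) (Fin 3) F) *ᵥ v) = v := by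
    intro y v
    rw [Matrix.mulVec_mulVec, ← Matrix.SpecialLinearGroup.coe_mul, ← Subgroup.coe_mul, mul_inv_cancel]
    simp
  let V : Subgroup A :=
    { carrier := {x | ∀ v : Fin 3 → F, v 2 = 0 →
        ((x : Matrix.SpecialLinearGroup (Fin 3) F) : Matrix (Fin 3) (Fin 3) F) *ᵥ v = v}
      one_mem' := fun v _ => by simp
      mul_mem' := fun {x y} hx hy v hv => by
        rw [Subgroup.coe_mul, Matrix.SpecialLinearGroup.coe_mul, ← Matrix.mulVec_mulVec, hy v hv, hx v hv]
      inv_mem' := fun {x} hx v hv => by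
        conv_rhs => rw [← hcancel x⁻¹ v, inv_inv, hx v hv] }
  refine ⟨V, ⟨fun x hx y v hv => ?_⟩, ?_, fun x hx => ?_⟩
  · rw [Subgroup.coe_mul, Subgroup.coe_mul, Matrix.SpecialLinearGroup.coe_mul, Matrix.SpecialLinearGroup.coe_mul,
      ← Matrix.mulVec_mulVec, ← Matrix.mulVec_mulVec, hx _ (hplane y⁻¹ v hv), hcancel]
  · intro hV
    let M : Matrix.SpecialLinearGroup (Fin 3) F := ⟨!![1, 0, 1; 0, 1, 0; 0, 0, 1], by simp [Matrix.det_fin_three]⟩
    have hM : (⟨M, Subgroup.subset_closure ⟨rfl, rfl, rfl⟩⟩ : A) ∈ V := by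
      intro v hv
      ext i
      fin_cases i <;> simp [M, Matrix.mulVec, dotProduct, Fin.sum_univ_three, hv]
    rw [hV, Subgroup.mem_bot] at hM
    have := congrArg (fun z : A => ((z : Matrix.SpecialLinearGroup (Fin 3) F) : Matrix (Fin 3) (Fin 3) F) 0 2) hM
    simp [M] at this
  · obtain ⟨h0, h1, h2⟩ := mem_affine_iff.mp x.2
    have c0 := hx (Pi.single 0 1) (by simp)
    have c1 := hx (Pi.single 1 1) (by simp)
    rw [Matrix.mulVec_single_one] at c0 c1
    have a00 := congrFun c0 0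
    have a10 := congrFun c0 1
    have a01 := congrFun c1 0
    have a11 := congrFun c1 1
    simp at a00 a10 a01 a11
    apply Subtype.ext; apply Subtype.ext
    rw [SubmonoidClass.coe_pow, Matrix.SpecialLinearGroup.coe_pow, sq]
    ext i j; fin_cases i <;> fin_cases j <;>
      simp [Matrix.mul_apply, Fin.sum_univ_three, a00, a10, a01, a11, h0, h1, h2, CharTwo.add_self_eq_zero]

end Cfsg.Agent.Spectrum
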